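import Mathlib

/-!
# Subgroups of index `n` of the symmetric group on `n` letters

The coset action of a subgroup `H` of index `n` of `Perm Ω` gives an automorphism of `S_n`
(for `n ≥ 5`); transpositions act as products of `k` transpositions where `k = 1` or `n = 6, k = 3`.
If `k = 1`, then `H` is a point stabilizer.
-/

set_option autoImplicit false
set_option linter.unusedSectionVars false

open Equiv Nat

namespace Cfsg.Agent.Lib.PermIndex.Basic

/-! ### Arithmetic -/

theorem key_ineq (k : ℕ) (hk : 4 ≤ k) : 2 ^ k * k ! < (2 * k - 2)! * 2 := by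
  induction k, hk using Nat.le_induction with
  | base => decide
  | succ k hk ih =>
    have h1 : 2 * (k + 1) - 2 = (2 * k - 2) + 2 := by omega
    rw [h1, Nat.factorial_succ, Nat.factorial_succ, Nat.factorial_succ, pow_succ]
    have h3 : 2 * k - 2 + 1 = 2 * k - 1 := by omega
    have h2 : 2 * k - 1 + 1 = 2 * k := by omega
    rw [h3, h2]
    have h4 : 2 * (k + 1) ≤ (2 * k) * (2 * k - 1) := by
      obtain ⟨j, rfl⟩ : ∃ j, k = j + 4 := ⟨k - 4, by omega⟩
      have : 2 * (j + 4) - 1 = 2 * j + 7 := by omega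
      rw [this]
      nlinarith
    calc 2 ^ k * 2 * ((k + 1) * k !) = (2 ^ k * k !) * (2 * (k + 1)) := by ring
      _ ≤ (2 ^ k * k !) * ((2 * k) * (2 * k - 1)) := Nat.mul_le_mul_left _ h4
      _ < ((2 * k - 2)! * 2) * ((2 * k) * (2 * k - 1)) := by
        apply Nat.mul_lt_mul_of_pos_right ih
        have : 1 ≤ 2 * k - 1 := by omega
        have h' : 1 ≤ 2 * k := by omega
        exact Nat.mul_pos (by omega) (by omega)
      _ = 2 * k * ((2 * k - 1) * (2 * k - 2)!) * 2 := by ring

theorem arith (n k : ℕ) (hk : 1 ≤ k) (h2k : 2 * k ≤ n)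
    (h : (n - 2 * k)! * 2 ^ k * k ! = (n - 2)! * 2) : k = 1 ∨ (n = 6 ∧ k = 3) := by
  obtain ⟨r, rfl⟩ : ∃ r, n = 2 * k + r := ⟨n - 2 * k, by omega⟩
  have h1 : 2 * k + r - 2 * k = r := by omega
  rw [h1] at h
  by_cases hk1 : k = 1
  · exact Or.inl hk1
  right
  have hrpos : 0 < r ! := Nat.factorial_pos r
  by_cases hk2 : k = 2
  · subst hk2
    exfalso
    have h2 : 2 * 2 + r - 2 = r + 2 := by omega
    rw [h2, Nat.factorial_succ, Nat.factorial_succ] at h
    have h3 : (r + 2) * (r + 1) = 4 := by
      have h4 : r ! * (4 * 2) = r ! * ((r + 2) * (r + 1) * 2) := by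
        simp only [factorial] at h
        nlinarith
      have := Nat.eq_of_mul_eq_mul_left hrpos h4
      omega
    rcases r with _ | r
    · omega
    · nlinarith
  by_cases hk3 : k = 3
  · subst hk3
    have h2 : 2 * 3 + r - 2 = r + 4 := by omega
    rw [h2, Nat.factorial_succ, Nat.factorial_succ, Nat.factorial_succ, Nat.factorial_succ] at h
    have h3 : (r + 4) * (r + 3) * (r + 2) * (r + 1) = 24 := by
      have h4 : r ! * 24 = r ! * ((r + 4) * (r + 3) * (r + 2) * (r + 1)) := by
        simp only [factorial] at h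
        nlinarith
      have := Nat.eq_of_mul_eq_mul_left hrpos h4
      omega
    rcases r with _ | r
    · exact ⟨rfl, rfl⟩
    · exfalso
      have : 5 * 4 * 3 * 2 ≤ (r + 1 + 4) * (r + 1 + 3) * (r + 1 + 2) * (r + 1 + 1) := by
        gcongr <;> omega
      omega
  · exfalso
    have hk4 : 4 ≤ k := by omega
    have h2 := key_ineq k hk4
    have h3 : 2 * k + r - 2 = (2 * k - 2) + r := by omega
    rw [h3] at h
    have h4 : (2 * k - 2)! * r ! ≤ ((2 * k - 2) + r)! :=
      Nat.le_of_dvd (Nat.factorial_pos _) (Nat.factorial_mul_factorial_dvd_factorial_add _ _)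
    have h5 : r ! * (2 ^ k * k !) < r ! * ((2 * k - 2)! * 2) := Nat.mul_lt_mul_of_pos_left h2 hrpos
    nlinarith


/-! ### The coset action -/

section Action

variable {Ω : Type*} [Fintype Ω] [DecidableEq Ω]

/-- The coset action of `Perm Ω` on `Perm Ω ⧸ H`. -/
noncomputable abbrev cosetHom (H : Subgroup (Perm Ω)) : Perm Ω →* Perm (Perm Ω ⧸ H) :=
  MulAction.toPermHom (Perm Ω) (Perm Ω ⧸ H)

theorem cosetHom_ker (H : Subgroup (Perm Ω)) : (cosetHom H).ker = H.normalCore :=
  (Subgroup.normalCore_eq_ker H).symm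

theorem cosetHom_injective (H : Subgroup (Perm Ω)) (h5 : 5 ≤ Fintype.card Ω) (hH : 2 < H.index) :
    Function.Injective (cosetHom H) := by
  by_contra hinj
  have hkerne : (cosetHom H).ker ≠ ⊥ := fun h => hinj ((MonoidHom.ker_eq_bot_iff _).mp h)
  have hnt : Nontrivial (cosetHom H).ker := (Subgroup.nontrivial_iff_ne_bot _).mpr hkerne
  have hA' := Equiv.Perm.alternatingGroup_le_of_normal (by simpa using h5) hnt
  rw [cosetHom_ker] at hA'
  have hAH := hA'.trans (Subgroup.normalCore_le H)
  have hdvd := Subgroup.index_dvd_of_le hAH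
  have : Nontrivial Ω := Fintype.one_lt_card_iff_nontrivial.mp (by omega)
  rw [alternatingGroup.index_eq_two] at hdvd
  have := Nat.le_of_dvd (by norm_num) hdvd
  omega

theorem cosetHom_bijective (H : Subgroup (Perm Ω)) (h5 : 5 ≤ Fintype.card Ω)
    (hindex : H.index = Fintype.card Ω) : Function.Bijective (cosetHom H) := by
  classical
  let _ := Fintype.ofFinite (Perm Ω ⧸ H)
  refine (Nat.bijective_iff_injective_and_card _).mpr ⟨cosetHom_injective H h5 (by omega), ?_⟩
  rw [Nat.card_eq_fintype_card, Nat.card_eq_fintype_card, Fintype.card_perm, Fintype.card_perm,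
    ← Nat.card_eq_fintype_card (α := Perm Ω ⧸ H)]
  change _ = (H.index)!
  rw [hindex]

/-- The image of a swap under an isomorphism of symmetric groups is a product of `k` disjoint
transpositions with `k = 1` or `n = 6` and `k = 3`. -/
theorem type_of_swap {Ω' : Type*} [Fintype Ω'] [DecidableEq Ω'] (ph : Perm Ω →* Perm Ω')
    (hph : Function.Bijective ph) (hcard : Fintype.card Ω' = Fintype.card Ω) {x y : Ω} (hxy : x ≠ y) :
    ∃ k : ℕ, (ph (swap x y)).cycleType = Multiset.replicate k 2 ∧
      (k = 1 ∨ (Fintype.card Ω = 6 ∧ k = 3)) := by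
  classical
  set τ := swap x y with hτ
  have hτs : τ.IsSwap := ⟨x, y, hxy, rfl⟩
  have hτc : τ.cycleType = {2} := Equiv.Perm.isSwap_iff_cycleType.mp hτs
  have hord : orderOf (ph τ) = 2 := by
    rw [orderOf_injective ph hph.1 τ, hτs.orderOf]
  obtain ⟨j, hj⟩ := Equiv.Perm.cycleType_prime_order (σ := ph τ) (by rw [hord]; exact Nat.prime_two)
  rw [hord] at hj
  set k := j + 1 with hk
  refine ⟨k, hj, ?_⟩
  -- count the conjugacy classes
  let e : Perm Ω ≃* Perm Ω' := MulEquiv.ofBijective ph hph
  have heq : (Finset.univ.filter (fun g : Perm Ω => g.cycleType = {2})).card =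
      (Finset.univ.filter (fun g : Perm Ω' => g.cycleType = Multiset.replicate k 2)).card := by
    apply Finset.card_bij (fun g _ => ph g)
    · intro g hg
      simp only [Finset.mem_filter, Finset.mem_univ, true_and] at hg ⊢
      rw [← hj, ← Equiv.Perm.isConj_iff_cycleType_eq]
      rw [← hτc, ← Equiv.Perm.isConj_iff_cycleType_eq] at hg
      exact MonoidHom.map_isConj ph hg
    · intro a _ b _ h
      exact hph.1 h
    · intro g' hg'
      simp only [Finset.mem_filter, Finset.mem_univ, true_and] at hg'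
      obtain ⟨g, rfl⟩ := hph.2 g'
      refine ⟨g, ?_, rfl⟩
      simp only [Finset.mem_filter, Finset.mem_univ, true_and]
      rw [← hτc, ← Equiv.Perm.isConj_iff_cycleType_eq]
      rw [← hj, ← Equiv.Perm.isConj_iff_cycleType_eq] at hg'
      have := MonoidHom.map_isConj e.symm.toMonoidHom hg'
      have h1 : e.symm.toMonoidHom (ph g) = g := e.symm_apply_apply g
      have h2 : e.symm.toMonoidHom (ph τ) = τ := e.symm_apply_apply τ
      rwa [h1, h2] at this
  have h1 := Equiv.Perm.card_of_cycleType_mul_eq Ω ({2} : Multiset ℕ)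
  have h2 := Equiv.Perm.card_of_cycleType_mul_eq Ω' (Multiset.replicate k 2)
  have hsum : (Multiset.replicate k 2).sum = 2 * k := by
    simp [Multiset.sum_replicate, mul_comm]
  have hle : 2 * k ≤ Fintype.card Ω := by
    have := Equiv.Perm.sum_cycleType (ph τ)
    rw [hj, hsum] at this
    rw [this, ← hcard]
    exact Finset.card_le_univ _
  have hn2 : 2 ≤ Fintype.card Ω := by omega
  have hprod : (Multiset.replicate k 2).prod = 2 ^ k := by simp
  have htof : (Multiset.replicate k 2).toFinset = {2} := by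
    ext a
    simp only [Multiset.mem_toFinset, Multiset.mem_replicate, Finset.mem_singleton]
    constructor
    · rintro ⟨_, h⟩; exact h
    · intro h; exact ⟨by omega, h⟩
  have h3 : (∏ n ∈ (Multiset.replicate k 2).toFinset, ((Multiset.replicate k 2).count n)!) = k ! := by
    rw [htof, Finset.prod_singleton, Multiset.count_replicate_self]
  rw [hcard, hsum, hprod, h3, if_pos ⟨hle, by
    intro a ha
    rw [Multiset.mem_replicate] at ha
    omega⟩] at h2
  simp only [Multiset.sum_singleton, Multiset.prod_singleton, Multiset.mem_singleton,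
    Multiset.toFinset_singleton, Finset.prod_singleton, Multiset.count_singleton_self] at h1
  rw [if_pos ⟨hn2, by omega⟩] at h1
  rw [← heq] at h2
  have hN : 0 < (Finset.univ.filter (fun g : Perm Ω => g.cycleType = {2})).card := by
    apply Finset.card_pos.mpr
    exact ⟨τ, by simp [hτc]⟩
  have h4 : (Fintype.card Ω - 2 * k)! * 2 ^ k * k ! = (Fintype.card Ω - 2)! * 2 := by
    have h5 := h1.trans h2.symm
    have h6 := Nat.eq_of_mul_eq_mul_left hN h5
    simpa using h6.symm
  exact arith _ k (by omega) hle h4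

/-- Stabilizers of points have index `n`. -/
theorem index_stabilizer_point (z : Ω) :
    (MulAction.stabilizer (Perm Ω) z).index = Fintype.card Ω := by
  rw [MulAction.index_stabilizer, MulAction.orbit_eq_univ, Set.ncard_univ, Nat.card_eq_fintype_card]

theorem eq_stabilizer_of_ge (H : Subgroup (Perm Ω)) (z : Ω) (hle : MulAction.stabilizer (Perm Ω) z ≤ H)
    (hindex : H.index = Fintype.card Ω) : H = MulAction.stabilizer (Perm Ω) z := by
  symm
  apply Subgroup.eq_of_le_of_card_ge hle
  have h1 := Subgroup.card_mul_index H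
  have h2 := Subgroup.card_mul_index (MulAction.stabilizer (Perm Ω) z)
  rw [index_stabilizer_point] at h2
  rw [hindex] at h1
  have hpos : 0 < Fintype.card Ω := by
    have : H.index ≠ 0 := Subgroup.index_ne_zero_of_finite
    omega
  have := Nat.eq_of_mul_eq_mul_right hpos (h1.trans h2.symm)
  omega

theorem eq_stabilizer_of_le (H : Subgroup (Perm Ω)) (z : Ω) (hle : H ≤ MulAction.stabilizer (Perm Ω) z)
    (hindex : H.index = Fintype.card Ω) : H = MulAction.stabilizer (Perm Ω) z := by
  apply Subgroup.eq_of_le_of_card_ge hle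
  have h1 := Subgroup.card_mul_index H
  have h2 := Subgroup.card_mul_index (MulAction.stabilizer (Perm Ω) z)
  rw [index_stabilizer_point] at h2
  rw [hindex] at h1
  have hpos : 0 < Fintype.card Ω := by
    have : H.index ≠ 0 := Subgroup.index_ne_zero_of_finite
    omega
  have := Nat.eq_of_mul_eq_mul_right hpos (h1.trans h2.symm)
  omega

/-- If `H` contains all transpositions moving only points different from `z`,
then `H` contains the stabilizer of `z`. -/
theorem stabilizer_le_of_swaps (H : Subgroup (Perm Ω)) (z : Ω)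
    (hs : ∀ u v : Ω, u ≠ z → v ≠ z → swap u v ∈ H) : MulAction.stabilizer (Perm Ω) z ≤ H := by
  classical
  let p : Ω → Prop := fun x => x ≠ z
  let ι : Perm (Subtype p) →* Perm Ω := Equiv.Perm.ofSubtype
  have hL : H.comap ι = ⊤ := by
    rw [eq_top_iff, ← Equiv.Perm.closure_isSwap, Subgroup.closure_le]
    rintro _ ⟨a, b, _, rfl⟩
    change ι (swap a b) ∈ H
    have : ι (swap a b) = swap (a : Ω) (b : Ω) := Equiv.Perm.ofSubtype_swap_eq a b
    rw [this]
    exact hs _ _ a.2 b.2
  intro g hg
  have hgz : g z = z := hg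
  have hmem : g ∈ ι.range := by
    rw [Equiv.Perm.mem_range_ofSubtype_iff]
    intro x hx hxz
    apply Equiv.Perm.mem_support.mp hx
    rw [hxz]
    exact hgz
  obtain ⟨g', rfl⟩ := hmem
  have : g' ∈ H.comap ι := by rw [hL]; trivial
  exact this

/-- If every transposition has exactly `n - 2` fixed points on the cosets of `H`,
then `H` is a point stabilizer. -/
theorem eq_stabilizer_of_fixedPoints (H : Subgroup (Perm Ω)) (hn : 3 ≤ Fintype.card Ω)
    (hindex : H.index = Fintype.card Ω)
    (hfix : ∀ x y : Ω, x ≠ y →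
      Nat.card {ω : Perm Ω ⧸ H // swap x y • ω = ω} = Fintype.card Ω - 2) :
    ∃ z : Ω, H = MulAction.stabilizer (Perm Ω) z := by
  classical
  let _ := Fintype.ofFinite (Perm Ω ⧸ H)
  set n := Fintype.card Ω with hn_def
  have hcardQ : Fintype.card (Perm Ω ⧸ H) = n := by
    rw [← Nat.card_eq_fintype_card, ← hindex]
    rfl
  let Pi : Finset (Ω × Ω) := (Finset.univ : Finset Ω).offDiag
  have hPicard : Pi.card = n * n - n := by
    rw [Finset.offDiag_card, Finset.card_univ]
  let r : Ω × Ω → (Perm Ω ⧸ H) → Prop := fun p ω => swap p.1 p.2 • ω = ω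
  let ω₀ : Perm Ω ⧸ H := ((1 : Perm Ω) : Perm Ω ⧸ H)
  have hmemH : ∀ g : Perm Ω, g • ω₀ = ω₀ ↔ g ∈ H := by
    intro g
    have h := MulAction.stabilizer_quotient H
    exact (MulAction.mem_stabilizer_iff.symm).trans (SetLike.ext_iff.mp h g)
  let S : Finset (Ω × Ω) := Pi.filter (fun p => swap p.1 p.2 ∈ H)
  have hcount := Finset.sum_card_bipartiteAbove_eq_sum_card_bipartiteBelow
    (s := Pi) (t := (Finset.univ : Finset (Perm Ω ⧸ H))) r
  -- left side
  have hleft : ∑ p ∈ Pi, (Finset.bipartiteAbove r Finset.univ p).card = Pi.card * (n - 2) := by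
    rw [Finset.sum_const_nat]
    rintro ⟨x, y⟩ hp
    have hxy : x ≠ y := (Finset.mem_offDiag.mp hp).2.2
    have h1 := hfix x y hxy
    rw [Nat.card_eq_fintype_card, Fintype.card_subtype] at h1
    exact h1
  -- right side
  have hright : ∑ ω ∈ (Finset.univ : Finset (Perm Ω ⧸ H)), (Finset.bipartiteBelow r Pi ω).card =
      n * S.card := by
    rw [Finset.sum_const_nat (m := S.card), Finset.card_univ, hcardQ]
    intro ω _
    obtain ⟨g, rfl⟩ := QuotientGroup.mk_surjective ω
    apply Finset.card_bij (fun p _ => (g⁻¹ p.1, g⁻¹ p.2))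
    · rintro ⟨x, y⟩ hp
      simp only [Finset.mem_bipartiteBelow] at hp
      obtain ⟨hp1, hp2⟩ := hp
      have hxy : x ≠ y := (Finset.mem_offDiag.mp hp1).2.2
      simp only [S, Finset.mem_filter, Pi, Finset.mem_offDiag, Finset.mem_univ, true_and]
      refine ⟨fun h => hxy (g⁻¹.injective h), ?_⟩
      rw [← hmemH]
      have h1 : swap (g⁻¹ x) (g⁻¹ y) = g⁻¹ * swap x y * g := by
        rw [Equiv.swap_apply_apply]
        simp
      rw [h1]
      have h2 : ω₀ = g⁻¹ • ((g : Perm Ω) : Perm Ω ⧸ H) := by
        simp only [ω₀]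
        rw [MulAction.Quotient.smul_coe, smul_eq_mul, inv_mul_cancel]
      rw [mul_smul, mul_smul]
      have h3 : g • ω₀ = ((g : Perm Ω) : Perm Ω ⧸ H) := by
        simp only [ω₀]
        rw [MulAction.Quotient.smul_coe, smul_eq_mul, mul_one]
      rw [h3, hp2]
      exact h2.symm
    · rintro ⟨x, y⟩ _ ⟨x', y'⟩ _ h
      simp only [Prod.mk.injEq] at h ⊢
      exact ⟨g⁻¹.injective h.1, g⁻¹.injective h.2⟩
    · rintro ⟨u, v⟩ huv
      simp only [S, Finset.mem_filter, Pi, Finset.mem_offDiag, Finset.mem_univ, true_and] at huv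
      obtain ⟨hne, hin⟩ := huv
      refine ⟨(g u, g v), ?_, by simp⟩
      simp only [Finset.mem_bipartiteBelow, Pi, Finset.mem_offDiag, Finset.mem_univ, true_and]
      refine ⟨fun h => hne (g.injective h), ?_⟩
      rw [← hmemH] at hin
      have h1 : swap (g u) (g v) = g * swap u v * g⁻¹ := Equiv.swap_apply_apply g u v
      change swap (g u) (g v) • ((g : Perm Ω) : Perm Ω ⧸ H) = ((g : Perm Ω) : Perm Ω ⧸ H)
      rw [h1]
      have h3 : ((g : Perm Ω) : Perm Ω ⧸ H) = g • ω₀ := by
        simp only [ω₀]
        rw [MulAction.Quotient.smul_coe, smul_eq_mul, mul_one]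
      rw [h3, mul_smul, mul_smul, inv_smul_smul, hin]
  have hSeq : n * S.card = (n * n - n) * (n - 2) := by
    rw [← hright, ← hcount, hleft, hPicard]
  have hScard : S.card = (n - 1) * (n - 2) := by
    have h1 : n * n - n = n * (n - 1) := by
      rw [Nat.mul_sub, mul_one]
    rw [h1, mul_assoc] at hSeq
    exact Nat.eq_of_mul_eq_mul_left (by omega) hSeq
  -- degrees
  let d : Ω → ℕ := fun x => (Finset.univ.filter (fun y => x ≠ y ∧ swap x y ∈ H)).card
  have hSd : S.card = ∑ x : Ω, d x := by
    rw [Finset.card_eq_sum_card_fiberwise (f := Prod.fst) (t := Finset.univ)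
      (fun p _ => Finset.mem_coe.mpr (Finset.mem_univ _))]
    apply Finset.sum_congr rfl
    intro x _
    apply Finset.card_bij (fun p _ => p.2)
    · rintro ⟨u, v⟩ hp
      simp only [S, Pi, Finset.mem_filter, Finset.mem_offDiag, Finset.mem_univ, true_and] at hp ⊢
      obtain ⟨⟨h1, h2⟩, rfl⟩ := hp
      exact ⟨h1, h2⟩
    · rintro ⟨u, v⟩ hp ⟨u', v'⟩ hp' h
      simp only [S, Pi, Finset.mem_filter, Finset.mem_offDiag, Finset.mem_univ, true_and] at hp hp'
      simp only at h
      rw [Prod.mk.injEq]
      exact ⟨hp.2.trans hp'.2.symm, h⟩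
    · intro v hv
      simp only [Finset.mem_filter, Finset.mem_univ, true_and] at hv
      refine ⟨(x, v), ?_, rfl⟩
      simp only [S, Pi, Finset.mem_filter, Finset.mem_offDiag, Finset.mem_univ, true_and]
      exact ⟨hv, trivial⟩
  -- a point of large degree
  obtain ⟨x, hx⟩ : ∃ x : Ω, n - 2 ≤ d x := by
    by_contra hall
    push Not at hall
    have h1 : ∑ x : Ω, d x ≤ (Finset.univ : Finset Ω).card * (n - 3) := by
      apply Finset.sum_le_card_nsmul
      intro x _
      have := hall x
      omega
    rw [← hSd, hScard, Finset.card_univ] at h1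
    obtain ⟨m, hm⟩ : ∃ m, n = m + 3 := ⟨n - 3, by omega⟩
    rw [hm] at h1
    simp only [Nat.add_sub_cancel] at h1
    have e1 : m + 3 - 1 = m + 2 := by omega
    have e2 : m + 3 - 2 = m + 1 := by omega
    rw [e1, e2] at h1
    nlinarith
  -- the bad set
  let B : Finset Ω := Finset.univ.filter (fun y => x ≠ y ∧ swap x y ∉ H)
  have hB : B.card ≤ 1 := by
    have h1 : (Finset.univ.filter (fun y => x ≠ y)).card = n - 1 := by
      rw [Finset.filter_ne, Finset.card_erase_of_mem (Finset.mem_univ _), Finset.card_univ]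
    have h2 := Finset.card_filter_add_card_filter_not (s := Finset.univ.filter (fun y => x ≠ y))
      (fun y => swap x y ∈ H)
    rw [Finset.filter_filter, Finset.filter_filter, h1] at h2
    have h3 : d x = (Finset.univ.filter (fun y => x ≠ y ∧ swap x y ∈ H)).card := rfl
    have h4 : B.card = (Finset.univ.filter (fun y => x ≠ y ∧ ¬ swap x y ∈ H)).card := rfl
    omega
  have hconj : ∀ u v : Ω, u ≠ x → v ≠ x → u ≠ v → swap x u ∈ H → swap x v ∈ H → swap u v ∈ H := by
    intro u v hu hv huv h1 h2
    have h3 : swap u v = swap x u * swap x v * (swap x u)⁻¹ := by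
      rw [← Equiv.swap_apply_apply, swap_apply_left, swap_apply_of_ne_of_ne hv (Ne.symm huv)]
    rw [h3]
    exact H.mul_mem (H.mul_mem h1 h2) (H.inv_mem h1)
  by_cases hBe : ∃ z, z ∈ B
  · obtain ⟨z, hz⟩ := hBe
    refine ⟨z, eq_stabilizer_of_ge H z (stabilizer_le_of_swaps H z ?_) hindex⟩
    have hall : ∀ y, y ≠ x → y ≠ z → swap x y ∈ H := by
      intro y hyx hyz
      by_contra hy
      have hyB : y ∈ B := by
        simp only [B, Finset.mem_filter, Finset.mem_univ, true_and]
        exact ⟨Ne.symm hyx, hy⟩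
      exact hyz (Finset.card_le_one.mp hB y hyB z hz)
    have hxz : x ≠ z := (Finset.mem_filter.mp hz).2.1
    intro u v hu hv
    by_cases huv : u = v
    · subst huv
      rw [swap_self]
      exact H.one_mem
    by_cases hux : u = x
    · subst hux
      exact hall v (Ne.symm huv) hv
    by_cases hvx : v = x
    · subst hvx
      rw [swap_comm]
      exact hall u huv hu
    exact hconj u v hux hvx huv (hall u hux hu) (hall v hvx hv)
  · exfalso
    have hall : ∀ y, y ≠ x → swap x y ∈ H := by
      intro y hyx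
      by_contra hy
      exact hBe ⟨y, by
        simp only [B, Finset.mem_filter, Finset.mem_univ, true_and]
        exact ⟨Ne.symm hyx, hy⟩⟩
    have htop : H = ⊤ := by
      rw [eq_top_iff, ← Equiv.Perm.closure_isSwap, Subgroup.closure_le]
      rintro _ ⟨u, v, huv, rfl⟩
      by_cases hux : u = x
      · subst hux
        exact hall v (Ne.symm huv)
      by_cases hvx : v = x
      · subst hvx
        rw [swap_comm]
        exact hall u huv
      exact hconj u v hux hvx huv (hall u hux) (hall v hvx)
    rw [htop, Subgroup.index_top] at hindex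
    omega


/-- Number of fixed points in terms of the support. -/
theorem card_fixed_of_support {α : Type*} [Fintype α] [DecidableEq α] (σ : Perm α) :
    Nat.card {ω : α // σ ω = ω} = Fintype.card α - σ.support.card := by
  classical
  rw [Nat.card_eq_fintype_card, Fintype.card_subtype]
  have h := Finset.card_filter_add_card_filter_not (s := (Finset.univ : Finset α))
    (fun ω => σ ω = ω)
  have h2 : (Finset.univ.filter (fun ω => ¬ σ ω = ω)) = σ.support := by
    ext ω
    simp [Equiv.Perm.mem_support]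
  rw [h2, Finset.card_univ] at h
  omega

/-- A subgroup of index `n = 3, 4` of `S_n` is a point stabilizer. -/
theorem small_case (H : Subgroup (Perm Ω)) (hn : Fintype.card Ω = 3 ∨ Fintype.card Ω = 4)
    (hindex : H.index = Fintype.card Ω) : ∃ z : Ω, H = MulAction.stabilizer (Perm Ω) z := by
  classical
  have hcardG : Nat.card (Perm Ω) = (Fintype.card Ω)! := by
    rw [Nat.card_eq_fintype_card, Fintype.card_perm]
  have hmul := Subgroup.card_mul_index H
  rw [hcardG, hindex] at hmul
  -- the prime
  obtain ⟨p, hp, hpn, hcH⟩ : ∃ p : ℕ, p.Prime ∧ p + 1 = Fintype.card Ω ∧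
      (Nat.card H = p ∨ Nat.card H = 2 * p) := by
    rcases hn with h | h
    · refine ⟨2, Nat.prime_two, by omega, Or.inl ?_⟩
      have h6 : (Fintype.card Ω)! = 6 := by rw [h]; rfl
      rw [h6, h] at hmul
      omega
    · refine ⟨3, Nat.prime_three, by omega, Or.inr ?_⟩
      have h6 : (Fintype.card Ω)! = 24 := by rw [h]; rfl
      rw [h6, h] at hmul
      omega
  have hp' : Fact p.Prime := ⟨hp⟩
  have hdvd : p ∣ Nat.card H := by
    rcases hcH with h | h
    · rw [h]
    · rw [h]; exact Dvd.intro_left 2 rfl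
  obtain ⟨c, hc⟩ := exists_prime_orderOf_dvd_card' p hdvd
  have hcord : orderOf (c : Perm Ω) = p := by
    rw [Subgroup.orderOf_coe]; exact hc
  obtain ⟨j, hj⟩ := Equiv.Perm.cycleType_prime_order (σ := (c : Perm Ω)) (by rw [hcord]; exact hp)
  rw [hcord] at hj
  have hsupp : (c : Perm Ω).support.card = p := by
    have h1 := Equiv.Perm.sum_cycleType (c : Perm Ω)
    rw [hj, Multiset.sum_replicate, smul_eq_mul] at h1
    have h2 : (c : Perm Ω).support.card ≤ Fintype.card Ω := Finset.card_le_univ _
    have hj0 : j = 0 := by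
      by_contra hj0
      have h3 : 2 * p ≤ (j + 1) * p := Nat.mul_le_mul_right _ (by omega)
      have h4 : 2 ≤ p := hp.two_le
      rcases hn with h | h <;> omega
    rw [← h1, hj0]
    ring
  -- the unique fixed point
  have hfixcard : (Finset.univ.filter (fun w => (c : Perm Ω) w = w)).card = 1 := by
    have h := card_fixed_of_support (c : Perm Ω)
    rw [Nat.card_eq_fintype_card, Fintype.card_subtype, hsupp] at h
    omega
  obtain ⟨z, hz⟩ := Finset.card_eq_one.mp hfixcard
  have hczz : ∀ w, (c : Perm Ω) w = w ↔ w = z := by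
    intro w
    have : w ∈ Finset.univ.filter (fun w => (c : Perm Ω) w = w) ↔ w ∈ ({z} : Finset Ω) := by rw [hz]
    simpa using this
  refine ⟨z, eq_stabilizer_of_le H z ?_ hindex⟩
  -- the cyclic group generated by c is normal in H
  let D : Subgroup H := Subgroup.zpowers c
  have hDcard : Nat.card D = p := by
    rw [Nat.card_zpowers, hc]
  have hDnormal : D.Normal := by
    have hmul2 := Subgroup.card_mul_index D
    rw [hDcard] at hmul2
    rcases hcH with h | h
    · have : D.index = 1 := by
        rw [h] at hmul2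
        exact Nat.eq_of_mul_eq_mul_left hp.pos (by omega)
      rw [Subgroup.index_eq_one.mp this]
      infer_instance
    · have : D.index = 2 := by
        rw [h, mul_comm 2 p] at hmul2
        exact Nat.eq_of_mul_eq_mul_left hp.pos hmul2
      exact Subgroup.normal_of_index_eq_two this
  intro h hh
  change h z = z
  by_contra hne
  -- h⁻¹ c h is a power of c
  have h1 : (⟨h, hh⟩ : H)⁻¹ * c * (⟨h, hh⟩ : H)⁻¹⁻¹ ∈ D :=
    hDnormal.conj_mem c (Subgroup.mem_zpowers c) _
  obtain ⟨m, hm⟩ := Subgroup.mem_zpowers_iff.mp h1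
  have h2 : ((c : Perm Ω) ^ m) z = z := by
    have h3 : (c : Perm Ω) z = z := (hczz z).mpr rfl
    exact Equiv.Perm.zpow_apply_eq_self_of_apply_eq_self h3 m
  have h4 : ((c : Perm Ω) ^ m) = h⁻¹ * c * h := by
    have := congrArg (Subtype.val) hm
    simpa using this
  rw [h4] at h2
  have h5 : (c : Perm Ω) (h z) = h z := by
    have := congrArg h h2
    simpa using this
  exact hne ((hczz _).mp h5)

end Action

end Cfsg.Agent.Lib.PermIndex.Basic
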