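import Cfsg.Agent.Lib.PermIndex.Basic

/-!
# The exotic subgroups of index six of `S_6`
-/

set_option autoImplicit false
set_option linter.unusedSectionVars false

open Equiv Cfsg.Agent.Lib.PermIndex.Basic

namespace Cfsg.Agent.Lib.PermIndex.Six

/-! ### A subgroup of index six of `S_5` -/

theorem exists_index_six_of_perm_five :
    ∃ H : Subgroup (Perm (Fin 5)), H.index = 6 := by
  classical
  have : Fact (Nat.Prime 5) := ⟨by norm_num⟩
  obtain ⟨P⟩ : Nonempty (Sylow 5 (Perm (Fin 5))) := inferInstance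
  refine ⟨Subgroup.normalizer (P : Set (Perm (Fin 5))), ?_⟩
  rw [← Sylow.card_eq_index_normalizer]
  set c := Nat.card (Sylow 5 (Perm (Fin 5))) with hc
  have hcard : Nat.card (Perm (Fin 5)) = 120 := by
    rw [Nat.card_eq_fintype_card, Fintype.card_perm, Fintype.card_fin]; rfl
  have h1 : c ≡ 1 [MOD 5] := card_sylow_modEq_one 5 (Perm (Fin 5))
  have h2 : c ∣ P.index := P.card_dvd_index
  have h3 : P.index ∣ 120 := by rw [← hcard]; exact Subgroup.index_dvd_card _
  have h4 : c ∣ 120 := h2.trans h3
  have hle : c ≤ 120 := Nat.le_of_dvd (by norm_num) h4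
  have hc16 : c = 1 ∨ c = 6 := by
    have hmod : c % 5 = 1 := h1
    clear_value c
    interval_cases c <;> first | omega | (exfalso; revert h4; decide)
  rcases hc16 with h | h
  · exfalso
    -- a unique Sylow subgroup is normal
    haveI : Subsingleton (Sylow 5 (Perm (Fin 5))) := by
      rw [hc] at h
      exact (Finite.card_le_one_iff_subsingleton).mp h.le
    have hnorm : (P : Subgroup (Perm (Fin 5))).Normal := P.normal_of_subsingleton
    have hdvd5 : 5 ∣ Nat.card (Perm (Fin 5)) := by rw [hcard]; norm_num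
    have hne : (P : Subgroup (Perm (Fin 5))) ≠ ⊥ := P.ne_bot_of_dvd_card hdvd5
    have hnt : Nontrivial (P : Subgroup (Perm (Fin 5))) := (Subgroup.nontrivial_iff_ne_bot _).mpr hne
    have hA := Equiv.Perm.alternatingGroup_le_of_normal (α := Fin 5)
      (by simp) hnt
    have hidx := Subgroup.index_dvd_of_le hA
    rw [alternatingGroup.index_eq_two] at hidx
    have h5 : Nat.card (P : Subgroup (Perm (Fin 5))) * (P : Subgroup (Perm (Fin 5))).index = 120 := by
      rw [← hcard]; exact Subgroup.card_mul_index _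
    obtain ⟨k, hk⟩ := P.isPGroup'.exists_card_eq
    have hi : (P : Subgroup (Perm (Fin 5))).index = 1 ∨ (P : Subgroup (Perm (Fin 5))).index = 2 :=
      (Nat.dvd_prime Nat.prime_two).mp hidx
    have h6 : 5 ^ k * 1 = 120 ∨ 5 ^ k * 2 = 120 := by
      rcases hi with hi | hi
      · left; rw [← hk, ← hi]; exact h5
      · right; rw [← hk, ← hi]; exact h5
    have h7 : ¬ (2 ∣ 5 ^ k) := by
      intro h
      have := Nat.Prime.dvd_of_dvd_pow Nat.prime_two h
      omega
    apply h7
    rcases h6 with h6 | h6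
    · rw [mul_one] at h6; rw [h6]; norm_num
    · have : 5 ^ k = 60 := by omega
      rw [this]; norm_num
  · exact h

/-! ### A transitive subgroup of index six -/

variable {Ω : Type*} [Fintype Ω] [DecidableEq Ω]

theorem exists_transitive_index_six (h6 : Fintype.card Ω = 6) :
    ∃ T : Subgroup (Perm Ω), T.index = 6 ∧ ∀ a b : Ω, ∃ g ∈ T, g a = b := by
  classical
  obtain ⟨H, hH⟩ := exists_index_six_of_perm_five
  let _ := Fintype.ofFinite (Perm (Fin 5) ⧸ H)
  have hcardQ : Fintype.card (Perm (Fin 5) ⧸ H) = Fintype.card Ω := by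
    rw [← Nat.card_eq_fintype_card, h6, ← hH]; rfl
  let e : (Perm (Fin 5) ⧸ H) ≃ Ω := Fintype.equivOfCardEq hcardQ
  let ψ : Perm (Fin 5) →* Perm Ω := (e.permCongrHom).toMonoidHom.comp (cosetHom H)
  have hψ : Function.Injective ψ := by
    have h1 := cosetHom_injective H (by simp) (by omega)
    exact (e.permCongrHom).injective.comp h1
  refine ⟨ψ.range, ?_, ?_⟩
  · have h1 := Subgroup.card_mul_index ψ.range
    have h2 : Nat.card ψ.range = Nat.card (Perm (Fin 5)) :=
      (Nat.card_congr (MonoidHom.ofInjective hψ).toEquiv).symm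
    rw [h2] at h1
    have h3 : Nat.card (Perm (Fin 5)) = 120 := by
      rw [Nat.card_eq_fintype_card, Fintype.card_perm, Fintype.card_fin]; rfl
    have h4 : Nat.card (Perm Ω) = 720 := by
      rw [Nat.card_eq_fintype_card, Fintype.card_perm, h6]; rfl
    rw [h3, h4] at h1
    omega
  · intro a b
    obtain ⟨g, hg⟩ := MulAction.exists_smul_eq (Perm (Fin 5)) (e.symm a) (e.symm b)
    refine ⟨ψ g, ⟨g, rfl⟩, ?_⟩
    change e (g • e.symm a) = b
    rw [hg]
    simp

/-! ### Dichotomy -/

/-- A subgroup of index six of `S_6` is a point stabilizer or transpositions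
act without fixed points on the cosets. -/
theorem stabilizer_or_fpf (h6 : Fintype.card Ω = 6) (H : Subgroup (Perm Ω))
    [Fintype (Perm Ω ⧸ H)] [DecidableEq (Perm Ω ⧸ H)] (hH : H.index = 6) :
    (∃ z : Ω, H = MulAction.stabilizer (Perm Ω) z) ∨
      ∀ x y : Ω, x ≠ y → (cosetHom H (swap x y)).cycleType = Multiset.replicate 3 2 := by
  classical
  have hcardQ : Fintype.card (Perm Ω ⧸ H) = Fintype.card Ω := by
    rw [← Nat.card_eq_fintype_card, h6, ← hH]; rfl
  have hbij := cosetHom_bijective H (by omega) (by omega : H.index = Fintype.card Ω)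
  by_cases hex : ∃ x y : Ω, x ≠ y ∧ (cosetHom H (swap x y)).cycleType = Multiset.replicate 3 2
  · right
    obtain ⟨x, y, hxy, hk⟩ := hex
    intro u v huv
    rw [← hk, ← Equiv.Perm.isConj_iff_cycleType_eq]
    apply MonoidHom.map_isConj
    rw [Equiv.Perm.isConj_iff_cycleType_eq]
    rw [Equiv.Perm.isSwap_iff_cycleType.mp ⟨u, v, huv, rfl⟩,
      Equiv.Perm.isSwap_iff_cycleType.mp ⟨x, y, hxy, rfl⟩]
  · left
    push Not at hex
    apply eq_stabilizer_of_fixedPoints H (by omega) (by omega)
    intro x y hxy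
    obtain ⟨k, hk, hk'⟩ := type_of_swap (cosetHom H) hbij hcardQ hxy
    have hk1 : k = 1 := by
      rcases hk' with h | ⟨_, h⟩
      · exact h
      · subst h
        exact absurd hk (hex x y hxy)
    subst hk1
    have h1 := card_fixed_of_support ((cosetHom H) (swap x y))
    have h2 := Equiv.Perm.sum_cycleType ((cosetHom H) (swap x y))
    rw [hk] at h2
    simp only [Multiset.sum_replicate, one_smul] at h2
    rw [← h2, hcardQ] at h1
    exact h1

/-- If the transposition has cycle type `2^3` on the cosets, no coset is fixed. -/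
theorem no_fixed_of_cycleType {α : Type*} [Fintype α] [DecidableEq α] (hα : Fintype.card α = 6)
    (σ : Perm α) (hσ : σ.cycleType = Multiset.replicate 3 2) (w : α) : σ w ≠ w := by
  intro h
  have h2 := Equiv.Perm.sum_cycleType σ
  rw [hσ] at h2
  simp only [Multiset.sum_replicate, smul_eq_mul] at h2
  have h3 : σ.support ⊆ Finset.univ.erase w := by
    intro v hv
    rw [Finset.mem_erase]
    refine ⟨?_, Finset.mem_univ _⟩
    rintro rfl
    exact (Equiv.Perm.mem_support.mp hv) h
  have h4 := Finset.card_le_card h3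
  rw [Finset.card_erase_of_mem (Finset.mem_univ _), Finset.card_univ] at h4
  omega

/-- A stabilizer contains a transposition. -/
theorem stabilizer_has_swap (h6 : Fintype.card Ω = 6) (z : Ω) :
    ∃ x y : Ω, x ≠ y ∧ swap x y ∈ MulAction.stabilizer (Perm Ω) z := by
  classical
  have h1 : (Finset.univ.erase z).card = 5 := by
    rw [Finset.card_erase_of_mem (Finset.mem_univ _), Finset.card_univ]; omega
  have h2 : 1 < (Finset.univ.erase z).card := by omega
  obtain ⟨x, hx, y, hy, hxy⟩ := Finset.one_lt_card.mp h2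
  refine ⟨x, y, hxy, ?_⟩
  change swap x y z = z
  exact swap_apply_of_ne_of_ne (Finset.ne_of_mem_erase hx).symm (Finset.ne_of_mem_erase hy).symm

/-- A swap in `H` is fixing the trivial coset. -/
theorem swap_in_subgroup_fixes {H : Subgroup (Perm Ω)} {s : Perm Ω} (hs : s ∈ H) :
    cosetHom H s ((1 : Perm Ω) : Perm Ω ⧸ H) = ((1 : Perm Ω) : Perm Ω ⧸ H) := by
  change s • ((1 : Perm Ω) : Perm Ω ⧸ H) = _
  rw [MulAction.Quotient.smul_coe, smul_eq_mul, mul_one]
  exact (QuotientGroup.eq ).mpr (by simpa using hs)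

/-- A "twisted" automorphism of `S_6`: transpositions have no fixed points. -/
def IsTwisted (α : Perm Ω ≃* Perm Ω) : Prop :=
  ∀ x y : Ω, x ≠ y → ∀ w, α (swap x y) w ≠ w

theorem exists_twisted (h6 : Fintype.card Ω = 6) : ∃ α : Perm Ω ≃* Perm Ω, IsTwisted α := by
  classical
  obtain ⟨T, hT, htrans⟩ := exists_transitive_index_six h6
  let _ := Fintype.ofFinite (Perm Ω ⧸ T)
  have hcardQ : Fintype.card (Perm Ω ⧸ T) = Fintype.card Ω := by
    rw [← Nat.card_eq_fintype_card, h6, ← hT]; rfl
  have hbij := cosetHom_bijective T (by omega) (by omega : T.index = Fintype.card Ω)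
  let e : (Perm Ω ⧸ T) ≃ Ω := Fintype.equivOfCardEq hcardQ
  let β : Perm Ω →* Perm Ω := (e.permCongrHom).toMonoidHom.comp (cosetHom T)
  have hβ : Function.Bijective β := (e.permCongrHom).bijective.comp hbij
  refine ⟨MulEquiv.ofBijective β hβ, ?_⟩
  intro x y hxy w hw
  have hnot : ¬ ∃ z : Ω, T = MulAction.stabilizer (Perm Ω) z := by
    rintro ⟨z, hz⟩
    obtain ⟨w, hw⟩ : ∃ w, w ≠ z := by
      have : Nontrivial Ω := Fintype.one_lt_card_iff_nontrivial.mp (by omega)
      exact exists_ne z
    obtain ⟨g, hg, hgz⟩ := htrans z w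
    rw [hz] at hg
    have : g z = z := hg
    exact hw (hgz.symm.trans this)
  have h := (stabilizer_or_fpf h6 T hT).resolve_left hnot x y hxy
  have h2 : cosetHom T (swap x y) (e.symm w) = e.symm w := by
    have h3 : e (cosetHom T (swap x y) (e.symm w)) = w := hw
    calc _ = e.symm (e (cosetHom T (swap x y) (e.symm w))) := (e.symm_apply_apply _).symm
      _ = e.symm w := by rw [h3]
  exact no_fixed_of_cycleType (by rw [hcardQ]; exact h6) _ h _ h2

/-- The main classification. -/
theorem stabilizer_or_comap (h6 : Fintype.card Ω = 6) (α : Perm Ω ≃* Perm Ω) (hα : IsTwisted α)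
    (H : Subgroup (Perm Ω)) (hH : H.index = 6) :
    (∃ z : Ω, H = MulAction.stabilizer (Perm Ω) z) ∨
      ∃ z : Ω, H = (MulAction.stabilizer (Perm Ω) z).comap α.toMonoidHom := by
  classical
  let _ := Fintype.ofFinite (Perm Ω ⧸ H)
  rcases stabilizer_or_fpf h6 H hH with h | hfpf
  · exact Or.inl h
  right
  have hcardQ : Fintype.card (Perm Ω ⧸ H) = Fintype.card Ω := by
    rw [← Nat.card_eq_fintype_card, h6, ← hH]; rfl
  have hbij := cosetHom_bijective H (by omega) (by omega : H.index = Fintype.card Ω)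
  -- the image of H under α is a stabilizer as soon as it contains a swap
  have hkey : ∀ u v : Ω, u ≠ v → swap u v ∈ H.map α.toMonoidHom →
      ∃ z : Ω, H = (MulAction.stabilizer (Perm Ω) z).comap α.toMonoidHom := by
    intro u v huv hmem
    have hidx : (H.map α.toMonoidHom).index = 6 := by
      rw [← hH]; exact Subgroup.index_map_equiv H α
    let _ := Fintype.ofFinite (Perm Ω ⧸ H.map α.toMonoidHom)
    rcases stabilizer_or_fpf h6 _ hidx with ⟨z, hz⟩ | hf
    · refine ⟨z, ?_⟩
      rw [← hz]
      ext g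
      simp only [Subgroup.mem_comap, Subgroup.mem_map]
      constructor
      · intro hg
        exact ⟨g, hg, rfl⟩
      · rintro ⟨g', hg', heq⟩
        have : g' = g := α.injective heq
        rwa [← this]
    · exfalso
      have hcardQ' : Fintype.card (Perm Ω ⧸ H.map α.toMonoidHom) = 6 := by
        rw [← Nat.card_eq_fintype_card, ← hidx]; rfl
      exact no_fixed_of_cycleType hcardQ' _ (hf u v huv) _ (swap_in_subgroup_fixes hmem)
  -- choose a swap
  have : Nontrivial Ω := Fintype.one_lt_card_iff_nontrivial.mp (by omega)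
  obtain ⟨x, y, hxy⟩ := exists_pair_ne Ω
  let β : Perm Ω →* Perm (Perm Ω ⧸ H) := (cosetHom H).comp α.symm.toMonoidHom
  have hβ : Function.Bijective β := hbij.comp α.symm.bijective
  obtain ⟨k, hk, hk'⟩ := type_of_swap β hβ hcardQ hxy
  set θ := α.symm (swap x y) with hθ
  have hαθ : α θ = swap x y := by simp [hθ]
  have hβθ : β (swap x y) = cosetHom H θ := rfl
  rcases hk' with rfl | ⟨_, rfl⟩
  · -- fixed coset
    obtain ⟨w, hw⟩ : ∃ w, β (swap x y) w = w := by
      by_contra hall
      push Not at hall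
      have h1 : (β (swap x y)).support = Finset.univ := by
        ext w
        simp [Equiv.Perm.mem_support, hall w]
      have h2 := Equiv.Perm.sum_cycleType (β (swap x y))
      rw [hk, h1, Finset.card_univ, hcardQ, h6] at h2
      simp at h2
    obtain ⟨g, rfl⟩ := QuotientGroup.mk_surjective w
    have hgmem : g⁻¹ * θ * g ∈ H := by
      have h1 : θ • ((g : Perm Ω) : Perm Ω ⧸ H) = (g : Perm Ω ⧸ H) := hw
      rw [MulAction.Quotient.smul_coe, smul_eq_mul] at h1
      have h2 := QuotientGroup.eq.mp h1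
      have h3 : (θ * g)⁻¹ * g = g⁻¹ * θ⁻¹ * g := by group
      have h4 : θ⁻¹ = θ := by
        rw [hθ, ← map_inv, swap_inv]
      rw [h3, h4] at h2
      exact h2
    apply hkey ((α g)⁻¹ x) ((α g)⁻¹ y) (fun h => hxy ((α g)⁻¹.injective h))
    refine ⟨g⁻¹ * θ * g, hgmem, ?_⟩
    have h1 : swap ((α g)⁻¹ x) ((α g)⁻¹ y) = (α g)⁻¹ * swap x y * ((α g)⁻¹)⁻¹ :=
      Equiv.swap_apply_apply _ _ _
    rw [h1]
    simp [map_mul, map_inv, hαθ]
  · -- conjugate to a swap: contradiction with twistedness
    exfalso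
    have h1 : IsConj (cosetHom H θ) (cosetHom H (swap x y)) := by
      rw [Equiv.Perm.isConj_iff_cycleType_eq, hfpf x y hxy, ← hβθ, hk]
    obtain ⟨c, hc⟩ := isConj_iff.mp h1
    obtain ⟨c', rfl⟩ := hbij.2 c
    have h2 : c' * θ * c'⁻¹ = swap x y := hbij.1 (by rw [map_mul, map_mul, map_inv]; exact hc)
    have h3 : θ = swap (c'⁻¹ x) (c'⁻¹ y) := by
      have h4 : swap (c'⁻¹ x) (c'⁻¹ y) = c'⁻¹ * swap x y * (c'⁻¹)⁻¹ :=
        Equiv.swap_apply_apply _ _ _
      rw [h4, ← h2]
      group
    have hne : c'⁻¹ x ≠ c'⁻¹ y := fun h => hxy (c'⁻¹.injective h)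
    have h5 := hα _ _ hne
    rw [← h3, hαθ] at h5
    -- a swap has a fixed point
    obtain ⟨w, hwx, hwy⟩ : ∃ w, w ≠ x ∧ w ≠ y := by
      have h7 : 2 < Fintype.card Ω := by omega
      obtain ⟨w, hw⟩ : ∃ w, w ∉ ({x, y} : Finset Ω) := by
        by_contra hall
        push Not at hall
        have : (Finset.univ : Finset Ω) ⊆ {x, y} := fun w _ => hall w
        have := Finset.card_le_card this
        rw [Finset.card_univ] at this
        have h8 : ({x, y} : Finset Ω).card ≤ 2 := Finset.card_le_two
        omega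
      simp only [Finset.mem_insert, Finset.mem_singleton, not_or] at hw
      exact ⟨w, hw.1, hw.2⟩
    exact h5 w (swap_apply_of_ne_of_ne hwx hwy)

/-- The comap of a stabilizer contains no swap. -/
theorem swap_not_mem_comap (α : Perm Ω ≃* Perm Ω) (hα : IsTwisted α) (z x y : Ω) (hxy : x ≠ y) :
    swap x y ∉ (MulAction.stabilizer (Perm Ω) z).comap α.toMonoidHom := by
  intro h
  exact hα x y hxy z h

theorem index_comap_stabilizer (h6 : Fintype.card Ω = 6) (α : Perm Ω ≃* Perm Ω) (z : Ω) :
    ((MulAction.stabilizer (Perm Ω) z).comap α.toMonoidHom).index = 6 := by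
  rw [Subgroup.index_comap_of_surjective _ α.surjective, index_stabilizer_point, h6]

theorem comap_ne_stabilizer (h6 : Fintype.card Ω = 6) (α : Perm Ω ≃* Perm Ω) (hα : IsTwisted α)
    (z a : Ω) :
    (MulAction.stabilizer (Perm Ω) z).comap α.toMonoidHom ≠ MulAction.stabilizer (Perm Ω) a := by
  intro h
  obtain ⟨x, y, hxy, hmem⟩ := stabilizer_has_swap h6 a
  rw [← h] at hmem
  exact swap_not_mem_comap α hα z x y hxy hmem

theorem stabilizer_injective (h6 : Fintype.card Ω = 6) :
    Function.Injective (fun z : Ω => MulAction.stabilizer (Perm Ω) z) := by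
  classical
  intro z z' h
  by_contra hne
  obtain ⟨w, hw, hw'⟩ : ∃ w, w ≠ z ∧ w ≠ z' := by
    obtain ⟨w, hw⟩ : ∃ w, w ∉ ({z, z'} : Finset Ω) := by
      by_contra hall
      push Not at hall
      have : (Finset.univ : Finset Ω) ⊆ {z, z'} := fun w _ => hall w
      have := Finset.card_le_card this
      rw [Finset.card_univ] at this
      have h8 : ({z, z'} : Finset Ω).card ≤ 2 := Finset.card_le_two
      omega
    simp only [Finset.mem_insert, Finset.mem_singleton, not_or] at hw
    exact ⟨w, hw.1, hw.2⟩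
  have h1 : swap z' w ∈ MulAction.stabilizer (Perm Ω) z := by
    change swap z' w z = z
    exact swap_apply_of_ne_of_ne hne (Ne.symm hw)
  simp only at h
  rw [h] at h1
  have h2 : swap z' w z' = z' := h1
  rw [swap_apply_left] at h2
  exact hw' h2

theorem comap_stabilizer_injective (h6 : Fintype.card Ω = 6) (α : Perm Ω ≃* Perm Ω) :
    Function.Injective (fun z : Ω => (MulAction.stabilizer (Perm Ω) z).comap α.toMonoidHom) := by
  intro z z' h
  apply stabilizer_injective h6
  simp only at h ⊢
  have hs : Function.Surjective α.toMonoidHom := α.surjective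
  have h1 := congrArg (fun K => K.map α.toMonoidHom) h
  simpa only [Subgroup.map_comap_eq_self_of_surjective hs] using h1

/-- The count of index six subgroups. -/
theorem card_index_six (h6 : Fintype.card Ω = 6) :
    Nat.card {H : Subgroup (Perm Ω) // H.index = 6} = 12 := by
  classical
  obtain ⟨α, hα⟩ := exists_twisted (Ω := Ω) h6
  let f : Ω ⊕ Ω → {H : Subgroup (Perm Ω) // H.index = 6} := fun s =>
    match s with
    | Sum.inl z => ⟨MulAction.stabilizer (Perm Ω) z, by rw [index_stabilizer_point, h6]⟩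
    | Sum.inr z => ⟨(MulAction.stabilizer (Perm Ω) z).comap α.toMonoidHom,
        index_comap_stabilizer h6 α z⟩
  have hf : Function.Bijective f := by
    constructor
    · rintro (z | z) (z' | z') h
      · simp only [f, Subtype.mk.injEq] at h
        rw [stabilizer_injective h6 h]
      · simp only [f, Subtype.mk.injEq] at h
        exact absurd h.symm (comap_ne_stabilizer h6 α hα z' z)
      · simp only [f, Subtype.mk.injEq] at h
        exact absurd h (comap_ne_stabilizer h6 α hα z z')
      · simp only [f, Subtype.mk.injEq] at h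
        rw [comap_stabilizer_injective h6 α h]
    · rintro ⟨H, hH⟩
      rcases stabilizer_or_comap h6 α hα H hH with ⟨z, hz⟩ | ⟨z, hz⟩
      · exact ⟨Sum.inl z, Subtype.ext hz.symm⟩
      · exact ⟨Sum.inr z, Subtype.ext hz.symm⟩
  rw [← Nat.card_congr (Equiv.ofBijective f hf), Nat.card_eq_fintype_card, Fintype.card_sum, h6]

/-- A stabilizer is isomorphic to `S_5`. -/
theorem stabilizer_mulEquiv (h6 : Fintype.card Ω = 6) (z : Ω) :
    Nonempty (MulAction.stabilizer (Perm Ω) z ≃* Perm (Fin 5)) := by
  classical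
  let p : Ω → Prop := fun x => x ≠ z
  let ι : Perm (Subtype p) →* Perm Ω := Equiv.Perm.ofSubtype
  have hι : Function.Injective ι := Equiv.Perm.ofSubtype_injective
  have hrange : ι.range = MulAction.stabilizer (Perm Ω) z := by
    ext g
    constructor
    · rintro ⟨g', rfl⟩
      change ι g' z = z
      exact Equiv.Perm.ofSubtype_apply_of_not_mem _ (by simp [p])
    · intro hg
      have hgz : g z = z := hg
      change g ∈ (Equiv.Perm.ofSubtype : Perm (Subtype p) →* Perm Ω).range
      rw [Equiv.Perm.mem_range_ofSubtype_iff]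
      intro x hx hxz
      apply Equiv.Perm.mem_support.mp hx
      rw [hxz]
      exact hgz
  have hcard : Fintype.card (Subtype p) = 5 := by
    rw [Fintype.card_subtype, Finset.filter_ne', Finset.card_erase_of_mem (Finset.mem_univ _),
      Finset.card_univ, h6]
  let e : Subtype p ≃ Fin 5 := Fintype.equivFinOfCardEq hcard
  exact ⟨((MulEquiv.subgroupCongr hrange).symm.trans (MonoidHom.ofInjective hι).symm).trans
    e.permCongrHom⟩

/-- Every index six subgroup is isomorphic to `S_5`. -/
theorem index_six_mulEquiv (h6 : Fintype.card Ω = 6) (H : Subgroup (Perm Ω)) (hH : H.index = 6) :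
    Nonempty (H ≃* Perm (Fin 5)) := by
  classical
  obtain ⟨α, hα⟩ := exists_twisted (Ω := Ω) h6
  rcases stabilizer_or_comap h6 α hα H hH with ⟨z, hz⟩ | ⟨z, hz⟩
  · obtain ⟨e⟩ := stabilizer_mulEquiv h6 z
    exact ⟨(MulEquiv.subgroupCongr hz).trans e⟩
  · obtain ⟨e⟩ := stabilizer_mulEquiv h6 z
    have hs : Function.Surjective α.toMonoidHom := α.surjective
    have h1 : H.map α.toMonoidHom = MulAction.stabilizer (Perm Ω) z := by
      rw [hz, Subgroup.map_comap_eq_self_of_surjective hs]
    exact ⟨((H.equivMapOfInjective α.toMonoidHom α.injective).trans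
      (MulEquiv.subgroupCongr h1)).trans e⟩

end Cfsg.Agent.Lib.PermIndex.Six
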